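import Mathlib
import Groth.Prelude.Def_W4c2invhilbsl2HJ

/-!
# Hirzebruch–Jung arithmetic of the weights
-/

set_option autoImplicit false

namespace Groth.Agent.InvHilbLib

open W4c2invhilbsl2

theorem hjVal_gt_one : ∀ c : List ℤ, c ≠ [] → (∀ x ∈ c, (2 : ℤ) ≤ x) → 1 < HJFrac.hjVal c := by
  intro c
  induction c with
  | nil => intro h; exact absurd rfl h
  | cons x l ih =>
    intro _ h2
    have hx : (2 : ℚ) ≤ x := by exact_mod_cast h2 x List.mem_cons_self
    rcases eq_or_ne l [] with rfl | hl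
    · simp [HJFrac.hjVal]; exact_mod_cast h2 x List.mem_cons_self
    · have hv := ih hl fun y hy => h2 y (List.mem_cons_of_mem _ hy)
      have : (HJFrac.hjVal l)⁻¹ < 1 := inv_lt_one_of_one_lt₀ hv
      simp only [HJFrac.hjVal]
      linarith

theorem seq_facts : ∀ (c : List ℤ), c ≠ [] → (∀ x ∈ c, (2 : ℤ) ≤ x) → ∀ n : ℕ → ℤ,
    (∀ i < c.length, n (i + 2) = c.getD i 0 * n (i + 1) - n i) → 0 < n 1 →
    HJFrac.hjVal c = (n 0 : ℚ) / (n 1 : ℚ) →
    (∀ i ≤ c.length, n (i + 1) < n i) ∧ n (c.length + 1) = 0 ∧ n c.length ∣ n 0 ∧ n c.length ∣ n 1 := by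
  intro c
  induction c with
  | nil => intro h; exact absurd rfl h
  | cons x l ih =>
    intro _ h2 n hrec h1 hval
    have h0 : n 1 < n 0 := by
      have := hjVal_gt_one (x :: l) (by simp) h2
      rw [hval, lt_div_iff₀ (by exact_mod_cast h1), one_mul] at this
      exact_mod_cast this
    have hn2 : n 2 = x * n 1 - n 0 := by simpa using hrec 0 (by simp)
    rcases eq_or_ne l [] with rfl | hl
    · have hx : (x : ℚ) = (n 0 : ℚ) / n 1 := by simpa [HJFrac.hjVal] using hval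
      rw [eq_div_iff (by exact_mod_cast h1.ne')] at hx
      have hx' : x * n 1 = n 0 := by exact_mod_cast hx
      refine ⟨fun i hi => ?_, by simpa [hn2] using (sub_eq_zero.2 hx'), ⟨x, by simp [← hx', mul_comm]⟩, dvd_rfl⟩
      rcases i with _ | _ | i
      · exact h0
      · show n 2 < n 1
        rw [hn2, hx', sub_self]; exact h1
      · simp at hi
    · have hl2 : ∀ y ∈ l, (2 : ℤ) ≤ y := fun y hy => h2 y (List.mem_cons_of_mem _ hy)
      have hv1 := hjVal_gt_one l hl hl2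
      have hn1q : (0 : ℚ) < n 1 := by exact_mod_cast h1
      have hcons : HJFrac.hjVal (x :: l) = (x : ℚ) - (HJFrac.hjVal l)⁻¹ := by simp [HJFrac.hjVal]
      have hinv : (HJFrac.hjVal l)⁻¹ = (n 2 : ℚ) / n 1 := by
        rw [hn2]
        rw [hcons, eq_div_iff hn1q.ne'] at hval
        rw [eq_div_iff hn1q.ne']
        push_cast
        linarith
      have hn2pos : 0 < n 2 := by
        have : (0 : ℚ) < (n 2 : ℚ) / n 1 := hinv ▸ inv_pos.2 (by linarith)
        rw [div_pos_iff_of_pos_right hn1q] at this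
        exact_mod_cast this
      obtain ⟨hd, hz, hdvd1, hdvd2⟩ := ih hl hl2 (fun i => n (i + 1))
        (fun i hi => by simpa using hrec (i + 1) (by simpa using hi)) hn2pos
        (by rw [← inv_inv (HJFrac.hjVal l), hinv, inv_div])
      refine ⟨fun i hi => ?_, by simpa using hz, ?_, by simpa using hdvd1⟩
      · rcases i with _ | i
        · exact h0
        · exact hd i (by simpa using hi)
      · rw [show n 0 = x * n 1 - n 2 by rw [hn2]; ring]
        exact (dvd_mul_of_dvd_right (by simpa using hdvd1) _).sub (by simpa using hdvd2)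

/-- The standing hypotheses. -/
structure Hyp (p q m : ℕ) (c : List ℤ) : Prop where
  hp : 0 < p
  hpq : p < q
  hcop : Nat.Coprime p q
  hm : 0 < m
  hnt : ¬ (q - p ∣ m)
  hc : IsHJDigits p q m c

variable {p q m : ℕ} {c : List ℤ}

/-- `Tᵢ = tPᵢ - bQᵢ`. -/
def T (p q m : ℕ) (c : List ℤ) (i : ℕ) : ℤ :=
  (tT p q m : ℤ) * hjP c i - (bB p q m : ℤ) * hjQ c i

theorem arith (hp : 0 < p) (hpq : p < q) (hcop : Nat.Coprime p q) (hnt : ¬ (q - p ∣ m)) :
    0 < gcdK p q m ∧ gcdK p q m * bB p q m = q - p ∧ 0 < tT p q m ∧ tT p q m < bB p q m ∧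
    Nat.Coprime (tT p q m) (bB p q m) ∧
    (m : ℤ) * p = ((alpha p q m : ℤ) + 1) * ((q : ℤ) - p) - (gcdK p q m : ℤ) * tT p q m := by
  unfold tT bB
  set d := q - p with hd
  set g := gcdK p q m with hg
  have hg0 : 0 < g := Nat.gcd_pos_of_pos_right _ (by omega)
  have hgd : g ∣ d := Nat.gcd_dvd_right _ _
  have hgm : g ∣ m := Nat.gcd_dvd_left _ _
  have hcd : Nat.Coprime d p := by
    rw [hd, Nat.coprime_sub_self_left hpq.le]
    exact hcop.symm
  set β := m * p % d with hβ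
  have hβd : β < d := Nat.mod_lt _ (by omega)
  have hgβ : g ∣ β := (Nat.dvd_mod_iff hgd).2 (hgm.mul_right _)
  have hβ0 : 0 < β := Nat.pos_of_ne_zero fun h => hnt (hcd.dvd_of_dvd_mul_right (Nat.dvd_of_mod_eq_zero h))
  have hgt : g * ((d - β) / g) = d - β := Nat.mul_div_cancel' (Nat.dvd_sub hgd hgβ)
  have hgb : g * (d / g) = d := Nat.mul_div_cancel' hgd
  refine ⟨hg0, hgb, ?_, ?_, ?_, ?_⟩
  · exact Nat.div_pos (Nat.le_of_dvd (by omega) (Nat.dvd_sub hgd hgβ)) hg0
  · refine Nat.lt_of_mul_lt_mul_left (a := g) ?_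
    rw [hgt, hgb]; omega
  · refine Nat.coprime_of_dvd' fun k hk hk1 hk2 => ?_
    have h1 : g * k ∣ d - β := hgt ▸ Nat.mul_dvd_mul_left g hk1
    have h2 : g * k ∣ d := hgb ▸ Nat.mul_dvd_mul_left g hk2
    have h3 : g * k ∣ β := by
      have := Nat.dvd_sub h2 h1
      rwa [show d - (d - β) = β by omega] at this
    have h4 : g * k ∣ m * p := by
      rw [← Nat.div_add_mod (m * p) d]
      exact (h2.mul_right _).add h3
    have h5 : g * k ∣ g := Nat.dvd_gcd ((hcd.coprime_dvd_left h2).dvd_of_dvd_mul_right h4) h2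
    exact Nat.dvd_of_mul_dvd_mul_left hg0 (by simpa using h5)
  · have hma : (m : ℤ) * p = (d : ℤ) * (alpha p q m : ℤ) + β := by
      have := (Nat.div_add_mod (m * p) d).symm
      rw [alpha]
      exact_mod_cast this
    have hgt' : (g : ℤ) * ((d - β) / g : ℕ) = (d : ℤ) - β := by
      rw [← Nat.cast_sub hβd.le]; exact_mod_cast hgt
    have hd' : (d : ℤ) = (q : ℤ) - p := by omega
    rw [hma, hgt', ← hd']
    ring

namespace Hyp

variable (H : Hyp p q m c)
include H

theorem gpos : (0 : ℤ) < gcdK p q m := by exact_mod_cast (arith H.hp H.hpq H.hcop H.hnt).1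

theorem gb : (gcdK p q m : ℤ) * bB p q m = (q : ℤ) - p := by
  rw [← Nat.cast_sub H.hpq.le]; exact_mod_cast (arith H.hp H.hpq H.hcop H.hnt).2.1

theorem tpos : (0 : ℤ) < tT p q m := by exact_mod_cast (arith H.hp H.hpq H.hcop H.hnt).2.2.1

theorem tlt : (tT p q m : ℤ) < bB p q m := by exact_mod_cast (arith H.hp H.hpq H.hcop H.hnt).2.2.2.1

theorem mp_eq : (m : ℤ) * p = ((alpha p q m : ℤ) + 1) * ((q : ℤ) - p) - (gcdK p q m : ℤ) * tT p q m :=
  (arith H.hp H.hpq H.hcop H.hnt).2.2.2.2.2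

theorem nN_eq (i : ℕ) : nN p q m c i = (gcdK p q m : ℤ) * T p q m c i := by
  rw [nN, eE, lL, T]
  push_cast
  linear_combination -(hjP c i) * H.mp_eq + hjQ c i * H.gb

theorem ne_nil : c ≠ [] := by
  rintro rfl
  have h := H.hc.2
  rw [show HJFrac.hjVal [] = 0 by simp [HJFrac.hjVal]] at h
  have h1 : (0 : ℚ) < bB p q m := by exact_mod_cast H.tpos.trans H.tlt
  have h2 : (0 : ℚ) < tT p q m := by exact_mod_cast H.tpos
  exact absurd h.symm (div_pos h1 h2).ne'

theorem T_zero : T p q m c 0 = bB p q m := by simp [T, hjP, hjQ]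

theorem T_one : T p q m c 1 = tT p q m := by simp [T, hjP, hjQ]

theorem T_rec (i : ℕ) : T p q m c (i + 2) = c.getD i 0 * T p q m c (i + 1) - T p q m c i := by
  simp only [T, hjP, hjQ]; ring

theorem T_facts : (∀ i ≤ c.length, T p q m c (i + 1) < T p q m c i) ∧
    T p q m c (c.length + 1) = 0 ∧ T p q m c c.length = 1 := by
  obtain ⟨h1, h2, h3, h4⟩ := seq_facts c H.ne_nil H.hc.1 (T p q m c) (fun i _ => H.T_rec i)
    (by rw [H.T_one]; exact H.tpos) (by rw [H.hc.2, H.T_zero, H.T_one]; simp)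
  refine ⟨h1, h2, ?_⟩
  rw [H.T_zero] at h3
  rw [H.T_one] at h4
  have hpos : 0 < T p q m c c.length := by have := h1 c.length le_rfl; omega
  have hu : IsUnit (T p q m c c.length) :=
    ((Int.isCoprime_iff_gcd_eq_one.2 (arith H.hp H.hpq H.hcop H.hnt).2.2.2.2.1 : IsCoprime (tT p q m : ℤ) (bB p q m : ℤ))).isUnit_of_dvd' h4 h3
  rcases Int.isUnit_iff.1 hu with h | h <;> omega

theorem T_nonneg : ∀ i ≤ c.length + 1, 0 ≤ T p q m c i := by
  intro i hi
  induction hk : c.length + 1 - i generalizing i with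
  | zero => rw [show i = c.length + 1 by omega, H.T_facts.2.1]
  | succ k ih =>
    have := ih (i + 1) (by omega) (by omega)
    have := H.T_facts.1 i (by omega)
    omega

theorem T_le_b : ∀ i ≤ c.length + 1, T p q m c i ≤ bB p q m := by
  intro i
  induction i with
  | zero => intro _; rw [H.T_zero]
  | succ i ih => intro h; have := ih (by omega); have := H.T_facts.1 i (by omega); omega

theorem T_lt_b {i : ℕ} (hi : 1 ≤ i) (hir : i ≤ c.length + 1) : T p q m c i < bB p q m := by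
  obtain ⟨j, rfl⟩ : ∃ j, i = j + 1 := ⟨i - 1, by omega⟩
  have := H.T_facts.1 j (by omega)
  have := H.T_le_b j (by omega)
  omega

theorem P_facts : ∀ i ≤ c.length,
    0 ≤ hjP c i ∧ hjP c i < hjP c (i + 1) ∧ 1 ≤ hjP c i - hjQ c i ∧
      hjP c i - hjQ c i ≤ hjP c (i + 1) - hjQ c (i + 1) := by
  intro i
  induction i with
  | zero => intro _; simp [hjP, hjQ]
  | succ i ih =>
    intro hi
    obtain ⟨h1, h2, h3, h4⟩ := ih (by omega)
    have hc2 : 2 ≤ c.getD i 0 := by
      rw [List.getD_eq_getElem _ _ (by omega)]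
      exact H.hc.1 _ (List.getElem_mem _)
    refine ⟨by omega, ?_, by omega, ?_⟩
    · show hjP c (i + 1) < c.getD i 0 * hjP c (i + 1) - hjP c i
      nlinarith
    · show hjP c (i + 1) - hjQ c (i + 1) ≤
        (c.getD i 0 * hjP c (i + 1) - hjP c i) - (c.getD i 0 * hjQ c (i + 1) - hjQ c i)
      nlinarith

omit H in
theorem det (i : ℕ) : hjP c i * hjQ c (i + 1) - hjP c (i + 1) * hjQ c i = 1 := by
  induction i with
  | zero => simp [hjP, hjQ]
  | succ i ih =>
    show hjP c (i + 1) * (c.getD i 0 * hjQ c (i + 1) - hjQ c i) -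
      (c.getD i 0 * hjP c (i + 1) - hjP c i) * hjQ c (i + 1) = 1
    linear_combination ih

theorem gap {j : ℕ} (hj : j < c.length) {x y : ℤ} (hx0 : 0 < x) (hx : x < hjP c (j + 1)) :
    T p q m c j ≤ (tT p q m : ℤ) * x - bB p q m * y ∨
      (tT p q m : ℤ) * x - bB p q m * y ≤ T p q m c (j + 1) - T p q m c j := by
  obtain ⟨u, v, hxu, hyu⟩ : ∃ u v : ℤ, x = u * hjP c j + v * hjP c (j + 1) ∧
      y = u * hjQ c j + v * hjQ c (j + 1) :=
    ⟨x * hjQ c (j + 1) - y * hjP c (j + 1), y * hjP c j - x * hjQ c j,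
      by linear_combination -x * det (c := c) j, by linear_combination -y * det (c := c) j⟩
  have hρ : (tT p q m : ℤ) * x - bB p q m * y = u * T p q m c j + v * T p q m c (j + 1) := by
    rw [hxu, hyu, T, T]; ring
  rw [hρ]
  obtain ⟨hP0, hP1, -, -⟩ := H.P_facts j hj.le
  have hT0 := H.T_nonneg (j + 1) (by omega)
  have hT1 := H.T_facts.1 j hj.le
  rcases lt_trichotomy u 0 with hu | hu | hu
  · right
    have hv : 1 ≤ v := by by_contra h; nlinarith
    have huv : u + v ≤ 0 := by by_contra h; nlinarith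
    nlinarith
  · subst hu
    rcases le_or_gt v 0 with hv | hv <;> nlinarith
  · left
    have hv : v ≤ 0 := by by_contra h; nlinarith
    have huv : 1 ≤ u + v := by by_contra h; nlinarith
    nlinarith

theorem key {i : ℕ} (hi : 1 ≤ i) (hir : i ≤ c.length) {x y : ℤ} (hx0 : 0 < x)
    (h1 : -T p q m c (i - 1) < (tT p q m : ℤ) * x - bB p q m * y)
    (h2 : (tT p q m : ℤ) * x - bB p q m * y < T p q m c (i - 1)) :
    y ≤ x ∧ (0 < (tT p q m : ℤ) * x - bB p q m * y → hjP c i ≤ x ∧ y - hjQ c i ≤ x - hjP c i) := by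
  obtain ⟨j, rfl⟩ : ∃ j, i = j + 1 := ⟨i - 1, by omega⟩
  rw [Nat.add_sub_cancel] at h1 h2
  have hTb := H.T_le_b j (by omega)
  have hb : (0 : ℤ) < bB p q m := H.tpos.trans H.tlt
  have ht := H.tlt
  refine ⟨by by_contra h; nlinarith, fun hρ => ?_⟩
  have hxP : hjP c (j + 1) ≤ x := by
    by_contra h
    rcases H.gap (by omega) hx0 (not_le.1 h) (y := y) with h' | h'
    · omega
    · have := H.T_facts.1 j (by omega); omega
  refine ⟨hxP, ?_⟩
  have hTlt := H.T_lt_b (i := j + 1) (by omega) (by omega)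
  have e : (bB p q m : ℤ) * (y - hjQ c (j + 1)) =
      (tT p q m : ℤ) * (x - hjP c (j + 1)) +
        (T p q m c (j + 1) - ((tT p q m : ℤ) * x - bB p q m * y)) := by
    rw [T]; ring
  by_contra h
  nlinarith

theorem rewrite_delta {d0 d1 d2 x : ℤ} (hw : d0 - p * d1 + q * d2 = 0) (hx : d2 - d1 = -(m : ℤ) * x) :
    ∃ y : ℤ, -d0 = (gcdK p q m : ℤ) * ((tT p q m : ℤ) * x - bB p q m * y) ∧
      d2 = ((alpha p q m : ℤ) + 1) * x - y ∧ d1 = d2 + m * x := by
  refine ⟨((alpha p q m : ℤ) + 1) * x - d2, ?_, by ring, by linarith⟩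
  have h1 : d1 = d2 + m * x := by linarith
  subst h1
  linear_combination -hw - x * H.mp_eq + (((alpha p q m : ℤ) + 1) * x - d2) * H.gb

theorem el_pos {i : ℕ} (hir : i ≤ c.length) : 0 < lL p q m c i ∧ 0 < eE p q m c i := by
  obtain ⟨h1, h2, h3, h4⟩ := H.P_facts i hir
  rw [lL, eE]
  push_cast
  constructor <;> nlinarith

theorem n_nonneg {i : ℕ} (hir : i ≤ c.length + 1) : 0 ≤ nN p q m c i := by
  rw [H.nN_eq]; exact mul_nonneg H.gpos.le (H.T_nonneg i hir)

/-- Every monomial of weight `(nᵢ, 0)` is divisible by `X₀^nᵢ` or by `X₁^eᵢ X₂^lᵢ`. -/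
theorem split_weight {i : ℕ} (hi : 1 ≤ i) (hir : i ≤ c.length) {d0 d1 d2 : ℤ} (h0 : 0 ≤ d0) (h1 : 0 ≤ d1)
    (h2 : 0 ≤ d2) (hw : d0 - p * d1 + q * d2 = nN p q m c i) (hm : (m : ℤ) ∣ d2 - d1) :
    nN p q m c i ≤ d0 ∨ eE p q m c i ≤ d1 ∧ lL p q m c i ≤ d2 := by
  by_contra hcon
  rw [not_or, not_le] at hcon
  obtain ⟨hlt, hnot⟩ := hcon
  obtain ⟨z, hz⟩ := hm
  obtain ⟨y, hy1, hy2, hy3⟩ := H.rewrite_delta (d0 := d0 - nN p q m c i) (d1 := d1) (d2 := d2) (x := -z)
    (by linarith) (by linarith)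
  set ρ := (tT p q m : ℤ) * -z - bB p q m * y
  have hg := H.gpos
  rw [H.nN_eq] at hy1 hlt
  have hρ0 : 0 < ρ := by by_contra h; nlinarith
  have hρT : ρ ≤ T p q m c i := by by_contra h; nlinarith
  have hTi := H.T_facts.1 (i - 1) (by omega)
  rw [show i - 1 + 1 = i by omega] at hTi
  have hTb := H.T_lt_b hi (by omega)
  have hx0 : 0 < -z := by
    by_contra h
    have hρb : ρ < (bB p q m : ℤ) := by omega
    rcases eq_or_lt_of_le (not_lt.1 h) with hz0 | hz0
    · simp only [ρ, hz0, mul_zero, zero_sub] at hρb hρ0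
      have ht := H.tlt
      have := H.tpos
      rcases le_or_gt 0 y with hy | hy <;> nlinarith
    · have e : (gcdK p q m : ℤ) * ρ = ((q : ℤ) - p) * d1 + q * (m * z) := by
        linear_combination -hy1 - hw + (q : ℤ) * hz - H.nN_eq i
      have hqm : (q : ℤ) ≤ q * (m * z) := le_mul_of_one_le_right (by positivity) (by have := H.hm; nlinarith)
      have hd : (0 : ℤ) ≤ ((q : ℤ) - p) * d1 := mul_nonneg (by have := H.hpq; omega) h1
      have hgρ : (gcdK p q m : ℤ) * ρ < (gcdK p q m : ℤ) * bB p q m := mul_lt_mul_of_pos_left hρb hg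
      rw [H.gb] at hgρ
      have := H.hp
      omega
  obtain ⟨-, hk⟩ := H.key hi hir hx0 (y := y) (by omega) (by omega)
  obtain ⟨hP, hQ⟩ := hk hρ0
  refine hnot ⟨?_, ?_⟩
  · rw [eE, hy3, hy2]; push_cast; nlinarith
  · rw [lL, hy2]; push_cast; nlinarith

/-- Two exponents of the same weight with small `X₀`-degrees differ by a weight zero exponent or by at least
`(eᵢ, lᵢ)`. -/
theorem sep {i : ℕ} (hi : 1 ≤ i) (hir : i ≤ c.length) {d0 d1 d2 x : ℤ} (hx : 0 ≤ x)
    (hw : d0 - p * d1 + q * d2 = 0) (hm : d2 - d1 = -(m : ℤ) * x)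
    (hl : -nN p q m c (i - 1) < d0) (hu : d0 < nN p q m c (i - 1)) :
    (d0 = 0 ∧ d1 = 0 ∧ d2 = 0) ∨ (0 ≤ d0 ∧ 0 < d1 ∧ 0 ≤ d2) ∨ (eE p q m c i ≤ d1 ∧ lL p q m c i ≤ d2) := by
  obtain ⟨y, hy1, hy2, hy3⟩ := H.rewrite_delta hw hm
  set ρ := (tT p q m : ℤ) * x - bB p q m * y with hρ
  have hg := H.gpos
  rw [H.nN_eq] at hl hu
  have h1 : -T p q m c (i - 1) < ρ := by by_contra h; nlinarith
  have h2 : ρ < T p q m c (i - 1) := by by_contra h; nlinarith
  have hb := H.T_le_b (i - 1) (by omega)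
  rcases hx.eq_or_lt with rfl | hx0
  · left
    have hy : y = 0 := by
      simp only [hρ, mul_zero, zero_sub] at h1 h2
      rcases lt_trichotomy y 0 with hy | hy | hy
      · nlinarith
      · exact hy
      · nlinarith
    subst hy
    simp [hρ] at hy1 hy2 hy3
    omega
  · obtain ⟨hyx, hk⟩ := H.key hi hir hx0 h1 h2
    rcases le_or_gt ρ 0 with h | h
    · refine Or.inr (Or.inl ⟨?_, ?_, ?_⟩)
      · nlinarith
      · have := H.hm; rw [hy3, hy2]; nlinarith
      · rw [hy2]; nlinarith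
    · obtain ⟨hP, hQ⟩ := hk h
      refine Or.inr (Or.inr ⟨?_, ?_⟩)
      · rw [eE, hy3, hy2]; push_cast; nlinarith
      · rw [lL, hy2]; push_cast; nlinarith

end Hyp

end Groth.Agent.InvHilbLib
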