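import Mathlib
import Groth.Prelude.Def_W4c2invhilbsl2
import Groth.Agent.InvHilbLib.HJ

/-!
# Monomials in a weight piece
-/

set_option autoImplicit false

universe u

open MvPolynomial W4c2invhilbsl2

noncomputable section

namespace Groth.Agent.InvHilbLib

theorem homog_induction {σ : Type} {k : Type u} [CommRing k] {M : Type} [AddCommMonoid M] (w : σ → M) {ν : M}
    {P : MvPolynomial σ k → Prop} (h0 : P 0) (hadd : ∀ a b, P a → P b → P (a + b))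
    (hmon : ∀ d r, Finsupp.weight w d = ν → P (monomial d r)) {f : MvPolynomial σ k}
    (hf : f ∈ weightedHomogeneousSubmodule k w ν) : P f := by
  rw [f.as_sum]
  refine Finset.sum_induction _ P hadd h0 fun d hd => hmon d _ ?_
  exact hf (mem_support_iff.1 hd)

theorem split {σ : Type} {k : Type u} [CommRing k] {M : Type} [AddCommGroup M] (w : σ → M) {ν μ : M}
    {d e : σ →₀ ℕ} (r : k) (h : e ≤ d) (hd : Finsupp.weight w d = ν) (he : Finsupp.weight w e = μ) :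
    ∃ a : MvPolynomial σ k, a ∈ weightedHomogeneousSubmodule k w (ν - μ) ∧
      monomial d r = a * monomial e 1 := by
  refine ⟨monomial (d - e) r, isWeightedHomogeneous_monomial _ _ _ ?_, ?_⟩
  · rw [eq_sub_iff_add_eq, ← he, ← map_add, tsub_add_cancel_of_le h, hd]
  · rw [monomial_mul, mul_one, tsub_add_cancel_of_le h]

theorem mem_zero {σ : Type} {k : Type u} [CommRing k] {M : Type} [AddCommGroup M] {w : σ → M} {ν μ : M}
    {a : MvPolynomial σ k} (h : a ∈ weightedHomogeneousSubmodule k w (ν - μ)) (e : ν = μ) :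
    a ∈ weightedHomogeneousSubmodule k w 0 := by
  rwa [e, sub_self] at h

/-- An exponent in three variables. -/
def E3 (a b c : ℕ) : Fin 3 →₀ ℕ := Finsupp.equivFunOnFinite.symm ![a, b, c]

/-- An exponent in five variables. -/
def E5 (a b c d e : ℕ) : Fin 5 →₀ ℕ := Finsupp.equivFunOnFinite.symm ![a, b, c, d, e]

theorem E3_le {a b c : ℕ} {d : Fin 3 →₀ ℕ} (h0 : a ≤ d 0) (h1 : b ≤ d 1) (h2 : c ≤ d 2) : E3 a b c ≤ d := by
  intro i; fin_cases i <;> simpa [E3]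

theorem E5_le {a b c e f : ℕ} {d : Fin 5 →₀ ℕ} (h0 : a ≤ d 0) (h1 : b ≤ d 1) (h2 : c ≤ d 2) (h3 : e ≤ d 3)
    (h4 : f ≤ d 4) : E5 a b c e f ≤ d := by
  intro i; fin_cases i <;> simpa [E5]

theorem monomial3 {k : Type u} [CommRing k] (d : Fin 3 →₀ ℕ) :
    monomial d (1 : k) = X 0 ^ d 0 * X 1 ^ d 1 * X 2 ^ d 2 := by
  rw [monomial_eq, Finsupp.prod_fintype _ _ (fun i => pow_zero _), Fin.prod_univ_three, map_one, one_mul]

theorem monomial5 {k : Type u} [CommRing k] (d : Fin 5 →₀ ℕ) :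
    monomial d (1 : k) = X 0 ^ d 0 * X 1 ^ d 1 * X 2 ^ d 2 * X 3 ^ d 3 * X 4 ^ d 4 := by
  rw [monomial_eq, Finsupp.prod_fintype _ _ (fun i => pow_zero _), Fin.prod_univ_five, map_one, one_mul]

theorem monomial_E3 {k : Type u} [CommRing k] (a b c : ℕ) :
    monomial (E3 a b c) (1 : k) = X 0 ^ a * X 1 ^ b * X 2 ^ c := by
  rw [monomial3]; simp [E3]

theorem monomial_E5 {k : Type u} [CommRing k] (a b c d e : ℕ) :
    monomial (E5 a b c d e) (1 : k) = X 0 ^ a * X 1 ^ b * X 2 ^ c * X 3 ^ d * X 4 ^ e := by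
  rw [monomial5]; simp [E5]

variable (p q m : ℕ)

theorem weight3 (d : Fin 3 →₀ ℕ) : Finsupp.weight (wt3 p q m) d =
    ((d 0 : ℤ) - p * d 1 + q * d 2, (((d 2 : ℤ) - d 1 : ℤ) : ZMod m)) := by
  rw [Finsupp.weight_apply, Finsupp.sum_fintype _ _ (fun i => by simp), Fin.sum_univ_three]
  simp [wt3, Prod.ext_iff]
  constructor <;> ring

theorem weight5 (d : Fin 5 →₀ ℕ) : Finsupp.weight (wt5 p q m) d =
    ((d 0 : ℤ) - p * (d 1 + d 2) + q * (d 3 + d 4),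
      ((((d 3 : ℤ) + d 4) - (d 1 + d 2) : ℤ) : ZMod m)) := by
  rw [Finsupp.weight_apply, Finsupp.sum_fintype _ _ (fun i => by simp), Fin.sum_univ_five]
  simp [wt5, Prod.ext_iff]
  constructor <;> ring

theorem weight_E3 (a b c : ℕ) : Finsupp.weight (wt3 p q m) (E3 a b c) =
    ((a : ℤ) - p * b + q * c, (((c : ℤ) - b : ℤ) : ZMod m)) := by
  rw [weight3]; simp [E3]

theorem weight_E5 (a b c d e : ℕ) : Finsupp.weight (wt5 p q m) (E5 a b c d e) =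
    ((a : ℤ) - p * (b + c) + q * (d + e), ((((d : ℤ) + e) - (b + c) : ℤ) : ZMod m)) := by
  rw [weight5]; simp [E5]

theorem dvd_of_weight3 {d : Fin 3 →₀ ℕ} {n : ℤ} (h : Finsupp.weight (wt3 p q m) d = (n, (0 : ZMod m))) :
    (d 0 : ℤ) - p * d 1 + q * d 2 = n ∧ (m : ℤ) ∣ (d 2 : ℤ) - d 1 := by
  rw [weight3, Prod.ext_iff] at h
  exact ⟨h.1, (ZMod.intCast_zmod_eq_zero_iff_dvd _ _).1 h.2⟩

theorem dvd_of_weight5 {d : Fin 5 →₀ ℕ} {n : ℤ} (h : Finsupp.weight (wt5 p q m) d = (n, (0 : ZMod m))) :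
    (d 0 : ℤ) - p * (d 1 + d 2) + q * (d 3 + d 4) = n ∧ (m : ℤ) ∣ ((d 3 : ℤ) + d 4) - (d 1 + d 2) := by
  rw [weight5, Prod.ext_iff] at h
  exact ⟨h.1, (ZMod.intCast_zmod_eq_zero_iff_dvd _ _).1 h.2⟩

/-- A piece has rank at most one when any two monomials in it are proportional. -/
theorem rank_piece_le_one {σ : Type} {k : Type u} [Field k] {M : Type} [AddCommMonoid M] (w : σ → M)
    (I : Ideal (MvPolynomial σ k)) (ν : M)
    (h : ∀ d d', Finsupp.weight w d = ν → Finsupp.weight w d' = ν → ∃ r : k,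
      Ideal.Quotient.mk I (monomial d' 1) = r • Ideal.Quotient.mk I (monomial d 1) ∨
      Ideal.Quotient.mk I (monomial d 1) = r • Ideal.Quotient.mk I (monomial d' 1)) :
    Module.rank k (piece k w I ν) ≤ 1 := by
  classical
  rw [rank_submodule_le_one_iff']
  have key : ∀ v, (∀ d, Finsupp.weight w d = ν → Ideal.Quotient.mk I (monomial d 1) ∈ Submodule.span k {v}) →
      piece k w I ν ≤ Submodule.span k {v} := by
    rintro v hv _ ⟨f, hf, rfl⟩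
    show Ideal.Quotient.mk I f ∈ Submodule.span k {v}
    refine homog_induction w (P := fun f => Ideal.Quotient.mk I f ∈ Submodule.span k {v}) ?_ ?_ ?_ hf
    · rw [map_zero]; exact zero_mem _
    · intro a b ha hb; rw [map_add]; exact add_mem ha hb
    · intro d r hd
      rw [show monomial d r = r • (monomial d 1 : MvPolynomial σ k) by rw [smul_monomial, smul_eq_mul, mul_one]]
      exact Submodule.smul_mem _ r (hv d hd)
  by_cases hall : ∀ d, Finsupp.weight w d = ν → Ideal.Quotient.mk I (monomial d 1) = 0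
  · exact ⟨0, key 0 fun d hd => by rw [hall d hd]; exact zero_mem _⟩
  · push Not at hall
    obtain ⟨d, hd, hne⟩ := hall
    refine ⟨_, key (Ideal.Quotient.mk I (monomial d 1)) fun d' hd' => Submodule.mem_span_singleton.2 ?_⟩
    obtain ⟨r, hr | hr⟩ := h d d' hd hd'
    · exact ⟨r, hr.symm⟩
    · have hr0 : r ≠ 0 := fun h0 => hne (by rw [hr, h0, zero_smul])
      exact ⟨r⁻¹, by rw [hr, inv_smul_smul₀ hr0]⟩

variable {k : Type u} [Field k] {A : Type u} [CommRing A] [Algebra k A]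

theorem propI {D M N : ℕ} {x0 x1 x4 : A} {s : k} (h1 : x0 ^ D = x1 * x4)
    (h2 : x0 ^ M * x1 ^ N = algebraMap k A s) {a0 a1 a4 b0 b1 b4 j : ℕ} {a : ℤ}
    (e0 : (b0 : ℤ) = a0 + D * a + M * j) (e1 : (b1 : ℤ) = a1 - a + N * j) (e4 : (b4 : ℤ) = a4 - a) :
    x0 ^ b0 * x1 ^ b1 * x4 ^ b4 = s ^ j • (x0 ^ a0 * x1 ^ a1 * x4 ^ a4) := by
  rw [Algebra.smul_def, map_pow, ← h2]
  rcases Int.eq_nat_or_neg a with ⟨n, rfl | rfl⟩
  · have f0 : b0 = a0 + M * j + D * n := by zify; linarith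
    have f1 : a1 + N * j = b1 + n := by zify; linarith
    have f4 : a4 = b4 + n := by zify; linarith
    calc x0 ^ b0 * x1 ^ b1 * x4 ^ b4
        = x0 ^ (a0 + M * j) * x1 ^ (b1 + n) * x4 ^ a4 := by
          rw [f0, f4, pow_add x0 _ (D * n), pow_mul x0 D n, h1, mul_pow, pow_add x1, pow_add x4]; ring
      _ = _ := by rw [← f1, mul_pow, ← pow_mul, ← pow_mul, pow_add, pow_add]; ring
  · have f0 : a0 + M * j = b0 + D * n := by zify; linarith
    have f1 : b1 = a1 + N * j + n := by zify; linarith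
    have f4 : b4 = a4 + n := by zify; linarith
    calc x0 ^ b0 * x1 ^ b1 * x4 ^ b4
        = x0 ^ (b0 + D * n) * x1 ^ (a1 + N * j) * x4 ^ a4 := by
          rw [f1, f4, pow_add x0, pow_mul x0 D n, h1, mul_pow, pow_add x1 _ n, pow_add x4]; ring
      _ = _ := by rw [← f0, mul_pow, ← pow_mul, ← pow_mul, pow_add, pow_add]; ring

theorem propI_pair {p q m : ℕ} (hpq : p < q) {x0 x1 x4 : A} {s : k} (h1 : x0 ^ (q - p) = x1 * x4)
    (h2 : x0 ^ (m * p) * x1 ^ m = algebraMap k A s) {a0 a1 a4 b0 b1 b4 : ℕ}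
    (hw : (b0 : ℤ) - p * b1 + q * b4 = (a0 : ℤ) - p * a1 + q * a4)
    (hm : (m : ℤ) ∣ ((b4 : ℤ) - b1) - (a4 - a1)) :
    ∃ r : k, x0 ^ b0 * x1 ^ b1 * x4 ^ b4 = r • (x0 ^ a0 * x1 ^ a1 * x4 ^ a4) ∨
      x0 ^ a0 * x1 ^ a1 * x4 ^ a4 = r • (x0 ^ b0 * x1 ^ b1 * x4 ^ b4) := by
  obtain ⟨z, hz⟩ := hm
  rcases Int.eq_nat_or_neg z with ⟨j, rfl | rfl⟩
  · refine ⟨s ^ j, Or.inr (propI h1 h2 (a := (b4 : ℤ) - a4) ?_ ?_ (by ring))⟩
    · push_cast [Nat.cast_sub hpq.le]; linear_combination -hw + (p : ℤ) * hz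
    · push_cast; linear_combination hz
  · refine ⟨s ^ j, Or.inl (propI h1 h2 (a := (a4 : ℤ) - b4) ?_ ?_ (by ring))⟩
    · push_cast [Nat.cast_sub hpq.le]; linear_combination hw - (p : ℤ) * hz
    · push_cast; linear_combination -hz

theorem propJ_pair {p q m : ℕ} (hp : 0 < p) (hpq : p < q) (hcop : Nat.Coprime p q) (hm : 0 < m) {x0 x1 x3 : A}
    {s : k} (h1 : x0 ^ Nat.gcd m (q - p) = 0)
    (h2 : x1 ^ (m / Nat.gcd m (q - p) * q) * x3 ^ (m / Nat.gcd m (q - p) * p) = algebraMap k A s)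
    {a0 a1 a3 b0 b1 b3 : ℕ} (hw : (b0 : ℤ) - p * b1 + q * b3 = (a0 : ℤ) - p * a1 + q * a3)
    (hmd : (m : ℤ) ∣ ((b3 : ℤ) - b1) - (a3 - a1)) :
    ∃ r : k, x0 ^ b0 * x1 ^ b1 * x3 ^ b3 = r • (x0 ^ a0 * x1 ^ a1 * x3 ^ a3) ∨
      x0 ^ a0 * x1 ^ a1 * x3 ^ a3 = r • (x0 ^ b0 * x1 ^ b1 * x3 ^ b3) := by
  set g := Nat.gcd m (q - p) with hg
  rcases le_or_gt g b0 with hb | hb
  · exact ⟨0, Or.inl (by rw [pow_eq_zero_of_le hb h1]; simp)⟩
  rcases le_or_gt g a0 with ha | ha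
  · exact ⟨0, Or.inr (by rw [pow_eq_zero_of_le ha h1]; simp)⟩
  have hg0 : 0 < g := Nat.gcd_pos_of_pos_left _ hm
  obtain ⟨z, hz⟩ := hmd
  obtain ⟨A', hA⟩ : g ∣ m := Nat.gcd_dvd_left _ _
  obtain ⟨B', hB⟩ : g ∣ q - p := Nat.gcd_dvd_right _ _
  have hAB : Nat.Coprime A' B' := by
    have := Nat.coprime_div_gcd_div_gcd (m := m) (n := q - p) hg0
    rwa [← hg, hA, hB, Nat.mul_div_cancel_left _ hg0, Nat.mul_div_cancel_left _ hg0] at this
  have hdiv : m / g = A' := by rw [hA, Nat.mul_div_cancel_left _ hg0]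
  rw [hdiv] at h2
  have hBz : (q : ℤ) - p = (g : ℤ) * B' := by rw [← Nat.cast_sub hpq.le, hB]; push_cast; rfl
  have hAz : (m : ℤ) = (g : ℤ) * A' := by rw [hA]; push_cast; rfl
  have h0 : (b0 : ℤ) = a0 := by
    have hdvd : (g : ℤ) ∣ (b0 : ℤ) - a0 :=
      ⟨-((B' : ℤ) * ((b1 : ℤ) - a1)) - q * A' * z, by
        linear_combination hw - (q : ℤ) * hz - (q : ℤ) * z * hAz - ((b1 : ℤ) - a1) * hBz⟩
    have := Int.eq_zero_of_abs_lt_dvd hdvd (by rw [abs_lt]; omega)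
    omega
  obtain rfl : b0 = a0 := by exact_mod_cast h0
  obtain ⟨w, hw1⟩ : (q : ℤ) ∣ (b1 : ℤ) - a1 := by
    have h : (q : ℤ) ∣ ((b1 : ℤ) - a1) * p := ⟨(b3 : ℤ) - a3, by linear_combination -hw⟩
    exact (Int.isCoprime_iff_gcd_eq_one.2 hcop.symm : IsCoprime (q : ℤ) p).dvd_of_dvd_mul_right h
  have hw3 : (b3 : ℤ) - a3 = p * w := by
    have hq0 : (q : ℤ) ≠ 0 := by omega
    apply mul_left_cancel₀ hq0
    linear_combination hw + (p : ℤ) * hw1
  obtain ⟨u, hu⟩ : (A' : ℤ) ∣ w := by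
    have h : (A' : ℤ) ∣ w * B' := by
      refine ⟨-z, ?_⟩
      apply mul_left_cancel₀ (show (g : ℤ) ≠ 0 by omega)
      linear_combination -hw1 + hw3 - hz - w * hBz - z * hAz
    exact (Int.isCoprime_iff_gcd_eq_one.2 hAB : IsCoprime (A' : ℤ) B').dvd_of_dvd_mul_right h
  subst hu
  rcases Int.eq_nat_or_neg u with ⟨j, rfl | rfl⟩
  · refine ⟨s ^ j, Or.inl ?_⟩
    have f1 : b1 = a1 + A' * q * j := by zify; linarith
    have f3 : b3 = a3 + A' * p * j := by zify; linarith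
    rw [f1, f3, pow_add, pow_add, Algebra.smul_def, map_pow, ← h2, mul_pow, ← pow_mul, ← pow_mul]
    ring
  · refine ⟨s ^ j, Or.inr ?_⟩
    have f1 : a1 = b1 + A' * q * j := by zify; linarith
    have f3 : a3 = b3 + A' * p * j := by zify; linarith
    rw [f1, f3, pow_add, pow_add, Algebra.smul_def, map_pow, ← h2, mul_pow, ← pow_mul, ← pow_mul]
    ring

variable {p q m : ℕ} {c : List ℤ}

theorem propL_pair (H : Hyp p q m c) {i : ℕ} (hi : 1 ≤ i) (hir : i ≤ c.length) {x0 x1 x2 : A} {s : k}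
    (h0 : x0 ^ (nN p q m c (i - 1)).toNat = 0)
    (h1 : x1 ^ (eE p q m c i).toNat * x2 ^ (lL p q m c i).toNat = s • x0 ^ (nN p q m c i).toNat)
    (hK : ∀ a b e : ℕ, 0 < b → (a : ℤ) - p * b + q * e = 0 → (m : ℤ) ∣ (e : ℤ) - b →
      x0 ^ a * x1 ^ b * x2 ^ e = 0)
    {a0 a1 a2 b0 b1 b2 : ℕ} (hw : (b0 : ℤ) - p * b1 + q * b2 = (a0 : ℤ) - p * a1 + q * a2)
    (hm : (m : ℤ) ∣ ((b2 : ℤ) - b1) - (a2 - a1)) :
    ∃ r : k, x0 ^ b0 * x1 ^ b1 * x2 ^ b2 = r • (x0 ^ a0 * x1 ^ a1 * x2 ^ a2) ∨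
      x0 ^ a0 * x1 ^ a1 * x2 ^ a2 = r • (x0 ^ b0 * x1 ^ b1 * x2 ^ b2) := by
  obtain ⟨hlpos, hepos⟩ := H.el_pos hir
  have hn := H.n_nonneg (i := i) (by omega)
  have hn' := H.n_nonneg (i := i - 1) (by omega)
  set en := (eE p q m c i).toNat with hen
  set ln := (lL p q m c i).toNat with hln
  set nn := (nN p q m c i).toNat with hnn
  set nn' := (nN p q m c (i - 1)).toNat with hnn'
  have hnw : (nn : ℤ) = -(p : ℤ) * en + q * ln := by
    rw [hnn, hen, hln, Int.toNat_of_nonneg hn, Int.toNat_of_nonneg hepos.le, Int.toNat_of_nonneg hlpos.le, nN]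
  have hel : (m : ℤ) ∣ (ln : ℤ) - en := by
    rw [hen, hln, Int.toNat_of_nonneg hepos.le, Int.toNat_of_nonneg hlpos.le, eE, lL]
    exact ⟨-hjP c i, by push_cast; ring⟩
  have reduce : ∀ N : ℕ, ∀ u0 u1 u2 : ℕ, u1 ≤ N → x0 ^ u0 * x1 ^ u1 * x2 ^ u2 = 0 ∨
      ∃ (r : k) (v0 v1 v2 : ℕ), (v0 : ℤ) - p * v1 + q * v2 = (u0 : ℤ) - p * u1 + q * u2 ∧
        (m : ℤ) ∣ ((v2 : ℤ) - v1) - (u2 - u1) ∧ v0 < nn' ∧ ¬ (en ≤ v1 ∧ ln ≤ v2) ∧
        x0 ^ u0 * x1 ^ u1 * x2 ^ u2 = r • (x0 ^ v0 * x1 ^ v1 * x2 ^ v2) := by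
    intro N
    induction N with
    | zero =>
      intro u0 u1 u2 hu
      rcases le_or_gt nn' u0 with h | h
      · left; rw [pow_eq_zero_of_le h h0]; simp
      · right
        exact ⟨1, u0, u1, u2, rfl, by simp, h, by omega, (one_smul k _).symm⟩
    | succ N ih =>
      intro u0 u1 u2 hu
      rcases le_or_gt nn' u0 with h | h
      · left; rw [pow_eq_zero_of_le h h0]; simp
      by_cases hd : en ≤ u1 ∧ ln ≤ u2
      · have e : x0 ^ u0 * x1 ^ u1 * x2 ^ u2 = s • (x0 ^ (u0 + nn) * x1 ^ (u1 - en) * x2 ^ (u2 - ln)) := by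
          calc x0 ^ u0 * x1 ^ u1 * x2 ^ u2
              = x0 ^ u0 * x1 ^ (u1 - en) * x2 ^ (u2 - ln) * (x1 ^ en * x2 ^ ln) := by
                conv_lhs => rw [← Nat.sub_add_cancel hd.1, ← Nat.sub_add_cancel hd.2, pow_add, pow_add]
                ring
            _ = _ := by rw [h1, mul_smul_comm, pow_add]; congr 1; ring
        rcases ih (u0 + nn) (u1 - en) (u2 - ln) (by omega) with h' | ⟨r, v0, v1, v2, e1, e2, e3, e4, e5⟩
        · left; rw [e, h', smul_zero]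
        · right
          refine ⟨s * r, v0, v1, v2, ?_, ?_, e3, e4, by rw [e, e5, smul_smul]⟩
          · rw [e1]; push_cast [Nat.cast_sub hd.1, Nat.cast_sub hd.2]; linear_combination hnw
          · push_cast [Nat.cast_sub hd.1, Nat.cast_sub hd.2] at e2
            obtain ⟨z, hz⟩ := e2
            obtain ⟨z', hz'⟩ := hel
            exact ⟨z - z', by linear_combination hz - hz'⟩
      · right
        exact ⟨1, u0, u1, u2, rfl, by simp, h, hd, (one_smul k _).symm⟩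
  rcases reduce _ a0 a1 a2 le_rfl with ha | ⟨r, v0, v1, v2, ew, em, hv, hvi, er⟩
  · exact ⟨0, Or.inr (by rw [ha, zero_smul])⟩
  rcases reduce _ b0 b1 b2 le_rfl with hb | ⟨r', w0, w1, w2, ew', em', hw0, hwi, er'⟩
  · exact ⟨0, Or.inl (by rw [hb, zero_smul])⟩
  have hsame : ∀ {v0 v1 v2 w0 w1 w2 : ℕ}, v0 < nn' → ¬ (en ≤ w1 ∧ ln ≤ w2) → w0 < nn' →
      (w0 : ℤ) - p * w1 + q * w2 = (v0 : ℤ) - p * v1 + q * v2 →
      ∀ x : ℤ, 0 ≤ x → ((w2 : ℤ) - w1) - ((v2 : ℤ) - v1) = -(m : ℤ) * x →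
      x0 ^ w0 * x1 ^ w1 * x2 ^ w2 = 0 ∨ (v0 = w0 ∧ v1 = w1 ∧ v2 = w2) := by
    intro v0 v1 v2 w0 w1 w2 hv hwi hw0 hW x hx0 hx
    rcases H.sep hi hir hx0 (d0 := (w0 : ℤ) - v0) (d1 := (w1 : ℤ) - v1) (d2 := (w2 : ℤ) - v2)
      (by linarith) (by linarith) (by omega) (by omega) with h | h | h
    · right; omega
    · left
      obtain ⟨e0, rfl⟩ : ∃ e, w0 = v0 + e := ⟨w0 - v0, by omega⟩
      obtain ⟨e1, rfl⟩ : ∃ e, w1 = v1 + e := ⟨w1 - v1, by omega⟩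
      obtain ⟨e2, rfl⟩ : ∃ e, w2 = v2 + e := ⟨w2 - v2, by omega⟩
      have := hK e0 e1 e2 (by omega) (by push_cast at hW; linarith) ⟨-x, by push_cast at hx; linarith⟩
      calc x0 ^ (v0 + e0) * x1 ^ (v1 + e1) * x2 ^ (v2 + e2)
          = (x0 ^ v0 * x1 ^ v1 * x2 ^ v2) * (x0 ^ e0 * x1 ^ e1 * x2 ^ e2) := by
            rw [pow_add, pow_add, pow_add]; ring
        _ = 0 := by rw [this, mul_zero]
    · exact absurd ⟨by omega, by omega⟩ hwi
  obtain ⟨z, hz⟩ : (m : ℤ) ∣ ((w2 : ℤ) - w1) - (v2 - v1) := by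
    obtain ⟨z1, hz1⟩ := em
    obtain ⟨z2, hz2⟩ := em'
    obtain ⟨z3, hz3⟩ := hm
    exact ⟨z2 - z1 + z3, by linear_combination hz2 - hz1 + hz3⟩
  rcases le_or_gt z 0 with hz0 | hz0
  · rcases hsame (v1 := v1) (v2 := v2) hv hwi hw0 (by linarith) (-z) (by omega) (by rw [hz]; ring) with h | ⟨rfl, rfl, rfl⟩
    · exact ⟨0, Or.inl (by rw [er', h, smul_zero, zero_smul])⟩
    · by_cases hr : r = 0
      · exact ⟨0, Or.inr (by rw [er, hr, zero_smul, zero_smul])⟩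
      · exact ⟨r' / r, Or.inl (by rw [er, er', smul_smul, div_mul_cancel₀ _ hr])⟩
  · rcases hsame (v1 := w1) (v2 := w2) hw0 hvi hv (by linarith) z hz0.le (by linarith) with h | ⟨rfl, rfl, rfl⟩
    · exact ⟨0, Or.inr (by rw [er, h, smul_zero, zero_smul])⟩
    · by_cases hr : r = 0
      · exact ⟨0, Or.inr (by rw [er, hr, zero_smul, zero_smul])⟩
      · exact ⟨r' / r, Or.inl (by rw [er, er', smul_smul, div_mul_cancel₀ _ hr])⟩

end Groth.Agent.InvHilbLib
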